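import Mathlib
import Cfsg.Agent.MinNormal.Basic
import Cfsg.Agent.MinNormal.Structure

/-!
# Primitive and transitive groups and their minimal normal subgroups
-/

set_option autoImplicit false

namespace CfsgLib.MinNormal

open MulAction

variable {G : Type*} [Group G] {X : Type*} [MulAction G X] [FaithfulSMul G X]

/-- An element fixing a point and centralising a transitive subgroup is trivial. -/
theorem eq_one_of_fixed_centralizer {N : Subgroup G} [IsPretransitive N X] {c : G}
    (hc : c ∈ Subgroup.centralizer (N : Set G)) {x : X} (hx : c • x = x) : c = 1 := by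
  apply FaithfulSMul.eq_of_smul_eq_smul (α := X)
  intro y
  obtain ⟨n, rfl⟩ := exists_smul_eq N x y
  rw [one_smul, Subgroup.smul_def, ← mul_smul, ← Subgroup.mem_centralizer_iff.1 hc n n.2,
    mul_smul, hx]

/-- A subgroup centralising a transitive subgroup is semiregular. -/
theorem stabilizer_eq_bot_of_le_centralizer {N C : Subgroup G} [IsPretransitive N X]
    (hC : C ≤ Subgroup.centralizer (N : Set G)) (x : X) : stabilizer C x = ⊥ := by
  refine eq_bot_iff.2 fun c hc => ?_
  rw [Subgroup.mem_bot]
  exact Subtype.ext (eq_one_of_fixed_centralizer (hC c.2) (x := x) hc)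

/-- A transitive abelian subgroup is regular. -/
theorem stabilizer_eq_bot_of_commutative {N : Subgroup G} [IsPretransitive N X]
    (hab : IsMulCommutative N) (x : X) : stabilizer N x = ⊥ :=
  stabilizer_eq_bot_of_le_centralizer (N := N) (fun n hn => Subgroup.mem_centralizer_iff.2 fun m hm =>
    congrArg Subtype.val (hab.is_comm.comm ⟨m, hm⟩ ⟨n, hn⟩)) x

/-- A transitive abelian subgroup is self-centralising. -/
theorem centralizer_eq_of_commutative {N : Subgroup G} [IsPretransitive N X] [Nonempty X]
    (hab : IsMulCommutative N) : Subgroup.centralizer (N : Set G) = N := by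
  refine le_antisymm (fun c hc => ?_) (fun n hn => Subgroup.mem_centralizer_iff.2 fun m hm =>
    congrArg Subtype.val (hab.is_comm.comm ⟨m, hm⟩ ⟨n, hn⟩))
  obtain ⟨a⟩ := ‹Nonempty X›
  obtain ⟨n, hn⟩ := exists_smul_eq N a (c • a)
  have h1 : (n : G)⁻¹ * c ∈ Subgroup.centralizer (N : Set G) :=
    (Subgroup.centralizer (N : Set G)).mul_mem (Subgroup.mem_centralizer_iff.2 fun m hm =>
      congrArg Subtype.val (hab.is_comm.comm ⟨m, hm⟩ n⁻¹)) hc
  have h2 : ((n : G)⁻¹ * c) • a = a := by
    rw [mul_smul, inv_smul_eq_iff]; exact hn.symm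
  rw [← inv_mul_eq_one.1 (eq_one_of_fixed_centralizer h1 h2)]
  exact n.2

/-- A nontrivial normal subgroup of a faithful primitive group is transitive. -/
theorem isPretransitive_of_normal [IsPreprimitive G X] {M : Subgroup G} (hM : M.Normal)
    (hM1 : M ≠ ⊥) : IsPretransitive M X := by
  haveI := hM
  apply IsQuasiPreprimitive.isPretransitive_of_normal (G := G)
  intro h
  apply hM1
  rw [eq_bot_iff]
  intro g hg
  rw [Subgroup.mem_bot]
  apply FaithfulSMul.eq_of_smul_eq_smul (α := X)
  intro x
  rw [one_smul]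
  exact (h ▸ Set.mem_univ x : x ∈ fixedPoints M X) ⟨g, hg⟩

omit [FaithfulSMul G X] in
/-- A transitive subgroup and a point stabiliser generate the whole group. -/
theorem exists_mul_of_transitive {N : Subgroup G} [IsPretransitive N X] (a : X) (g : G) :
    ∃ n ∈ N, ∃ h ∈ stabilizer G a, g = n * h := by
  obtain ⟨n, hn⟩ := exists_smul_eq N a (g • a)
  exact ⟨n, n.2, (n : G)⁻¹ * g, by rw [mem_stabilizer_iff, mul_smul, inv_smul_eq_iff]; exact hn.symm,
    by group⟩

omit [FaithfulSMul G X] in
theorem sup_stabilizer_eq_top {N : Subgroup G} [IsPretransitive N X] (a : X) :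
    N ⊔ stabilizer G a = ⊤ := by
  refine eq_top_iff.2 fun g _ => ?_
  obtain ⟨n, hn, h, hh, rfl⟩ := exists_mul_of_transitive (N := N) a g
  exact (N ⊔ stabilizer G a).mul_mem (Subgroup.mem_sup_left hn) (Subgroup.mem_sup_right hh)

/-- Two mutually centralising transitive subgroups of a faithful group are isomorphic. -/
theorem nonempty_mulEquiv_of_centralizing {M N : Subgroup G} [IsPretransitive M X]
    [IsPretransitive N X] [Nonempty X] (hMN : M ≤ Subgroup.centralizer (N : Set G)) :
    Nonempty (M ≃* N) := by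
  classical
  obtain ⟨a⟩ := ‹Nonempty X›
  have hNM : N ≤ Subgroup.centralizer (M : Set G) := fun n hn => Subgroup.mem_centralizer_iff.2
    fun m hm => (Subgroup.mem_centralizer_iff.1 (hMN hm) n hn).symm
  let f : M → N := fun m => (exists_smul_eq N a (m • a)).choose
  have hf : ∀ m : M, (f m : G) • a = (m : G) • a := fun m =>
    (exists_smul_eq N a (m • a)).choose_spec
  have hsemi : ∀ x y : N, (x : G) • a = (y : G) • a → x = y := fun x y h => by
    have h1 : ((y : G)⁻¹ * x) • a = a := by rw [mul_smul, inv_smul_eq_iff]; exact h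
    exact Subtype.ext (inv_mul_eq_one.1 (eq_one_of_fixed_centralizer (N := M)
      (hNM (N.mul_mem (N.inv_mem y.2) x.2)) h1)).symm
  have hanti : ∀ m m' : M, f (m * m') = f m' * f m := fun m m' => hsemi _ _ (by
    rw [hf, Subgroup.coe_mul, Subgroup.coe_mul, mul_smul, ← hf m', ← mul_smul,
      ← Subgroup.mem_centralizer_iff.1 (hMN m.2) _ (f m').2, mul_smul, ← hf m, ← mul_smul])
  refine ⟨MulEquiv.ofBijective (MonoidHom.mk' (fun m => (f m)⁻¹)
    fun m m' => by show (f (m * m'))⁻¹ = (f m)⁻¹ * (f m')⁻¹; rw [hanti, mul_inv_rev]) ⟨?_, ?_⟩⟩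
  · intro m m' h
    have h' : f m = f m' := inv_injective h
    have h1 : ((m' : G)⁻¹ * m) • a = a := by
      rw [mul_smul, inv_smul_eq_iff, ← hf m, ← hf m', h']
    exact Subtype.ext (inv_mul_eq_one.1 (eq_one_of_fixed_centralizer (N := N)
      (hMN (M.mul_mem (M.inv_mem m'.2) m.2)) h1)).symm
  · intro n
    obtain ⟨m, hm⟩ := exists_smul_eq M a ((n⁻¹ : N) • a)
    refine ⟨m, ?_⟩
    show (f m)⁻¹ = n
    rw [hsemi (f m) n⁻¹ ((hf m).trans hm), inv_inv]

/-- The minimal normal subgroups of a primitive group: one abelian regular one, one nonabelian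
one with trivial centraliser, or two regular nonabelian ones centralising each other. -/
theorem IsMinNormal.primitive_cases [Finite G] [IsPreprimitive G X] [Nonempty X] {N : Subgroup G}
    (h : IsMinNormal N) :
    (IsMulCommutative N ∧ Subgroup.centralizer (N : Set G) = N ∧
      (∀ x : X, stabilizer N x = ⊥) ∧ ∀ L, IsMinNormal L → L = N) ∨
    (¬ IsMulCommutative N ∧ Subgroup.centralizer (N : Set G) = ⊥ ∧
      ∀ L, IsMinNormal L → L = N) ∨
    (¬ IsMulCommutative N ∧ (∀ x : X, stabilizer N x = ⊥) ∧
      ∃ M, IsMinNormal M ∧ M ≠ N ∧ M = Subgroup.centralizer (N : Set G) ∧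
        Nonempty (N ≃* M) ∧ (∀ x : X, stabilizer M x = ⊥) ∧
        ∀ L, IsMinNormal L → L = N ∨ L = M) := by
  haveI := h.normal
  haveI := isPretransitive_of_normal (X := X) h.normal h.ne_bot
  by_cases hab : IsMulCommutative N
  · refine Or.inl ⟨hab, centralizer_eq_of_commutative (X := X) hab,
      fun x => stabilizer_eq_bot_of_commutative hab x, fun L hL => by_contra fun hne => ?_⟩
    have h1 := h.le_centralizer_of_ne hL (Ne.symm hne)
    rw [centralizer_eq_of_commutative (X := X) hab] at h1
    exact hne (h.eq_of_le hL.normal hL.ne_bot h1)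
  by_cases hC : Subgroup.centralizer (N : Set G) = ⊥
  · refine Or.inr (Or.inl ⟨hab, hC, fun L hL => by_contra fun hne => hL.ne_bot ?_⟩)
    exact le_bot_iff.1 (hC ▸ h.le_centralizer_of_ne hL (Ne.symm hne))
  · obtain ⟨M, hM, hMC⟩ := exists_isMinNormal_le
      (inferInstance : (Subgroup.centralizer (N : Set G)).Normal) hC
    haveI := isPretransitive_of_normal (X := X) hM.normal hM.ne_bot
    have hNM : N ≤ Subgroup.centralizer (M : Set G) := fun n hn => Subgroup.mem_centralizer_iff.2
      fun m hm => (Subgroup.mem_centralizer_iff.1 (hMC hm) n hn).symm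
    have hne : M ≠ N := by
      rintro rfl
      exact hab ⟨⟨fun x y => Subtype.ext (Subgroup.mem_centralizer_iff.1 (hMC y.2) x x.2)⟩⟩
    have hMeq : M = Subgroup.centralizer (N : Set G) := by
      refine le_antisymm hMC fun c hc => ?_
      obtain ⟨a⟩ := ‹Nonempty X›
      obtain ⟨m, hm⟩ := exists_smul_eq M a (c • a)
      have h2 : ((m : G)⁻¹ * c) • a = a := by rw [mul_smul, inv_smul_eq_iff]; exact hm.symm
      rw [← inv_mul_eq_one.1 (eq_one_of_fixed_centralizer
        ((Subgroup.centralizer (N : Set G)).mul_mem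
          ((Subgroup.centralizer (N : Set G)).inv_mem (hMC m.2)) hc) h2)]
      exact m.2
    refine Or.inr (Or.inr ⟨hab, fun x => stabilizer_eq_bot_of_le_centralizer hNM x, M, hM, hne, hMeq,
      nonempty_mulEquiv_of_centralizing (X := X) hNM,
      fun x => stabilizer_eq_bot_of_le_centralizer hMC x, fun L hL => ?_⟩)
    rcases eq_or_ne L N with e | e
    · exact Or.inl e
    · refine Or.inr (hM.eq_of_le hL.normal hL.ne_bot ?_)
      rw [hMeq]
      exact h.le_centralizer_of_ne hL e.symm

end CfsgLib.MinNormal
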